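import Cfsg.Agent.ON45.Defs

/-!
# Kernel checks: every relator gives a scalar
-/

set_option Elab.async false
set_option maxRecDepth 100000

namespace Cfsg.Agent.ON45

theorem inv0 : relB [0, 7] 1 = true := by decide +kernel

theorem inv7 : relB [7, 0] 1 = true := by decide +kernel

theorem pairW0 : relB [1, 1] 1 = true := by decide +kernel

theorem pairW1 : relB [1, 2, 1, 2, 1, 2] 1 = true := by decide +kernel

theorem pairW2 : relB [1, 3, 1, 3] 1 = true := by decide +kernel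

theorem pairW3 : relB [1, 4, 1, 4] 1 = true := by decide +kernel

theorem pairW4 : relB [1, 5, 1, 5] 1 = true := by decide +kernel

theorem pairW5 : relB [1, 6, 1, 6] 1 = true := by decide +kernel

theorem pairW6 : relB [2, 2] 1 = true := by decide +kernel

theorem pairW7 : relB [2, 3, 2, 3, 2, 3] 1 = true := by decide +kernel

theorem pairW8 : relB [2, 4, 2, 4] 1 = true := by decide +kernel

theorem pairW9 : relB [2, 5, 2, 5] 1 = true := by decide +kernel

theorem pairW10 : relB [2, 6, 2, 6] 1 = true := by decide +kernel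

theorem pairW11 : relB [3, 3] 1 = true := by decide +kernel

theorem pairW12 : relB [3, 4, 3, 4, 3, 4, 3, 4, 3, 4, 3, 4, 3, 4, 3, 4] 1 = true := by decide +kernel

theorem pairW13 : relB [3, 5, 3, 5] 1 = true := by decide +kernel

theorem pairW14 : relB [3, 6, 3, 6] 1 = true := by decide +kernel

theorem pairW15 : relB [4, 4] 1 = true := by decide +kernel

theorem pairW16 : relB [4, 5, 4, 5, 4, 5] 1 = true := by decide +kernel

theorem pairW17 : relB [4, 6, 4, 6] 1 = true := by decide +kernel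

theorem pairW18 : relB [5, 5] 1 = true := by decide +kernel

theorem pairW19 : relB [5, 6, 5, 6, 5, 6] 1 = true := by decide +kernel

theorem pairW20 : relB [6, 6] 1 = true := by decide +kernel

/-- The words of the pairs. -/
def pairsW : List (List Nat) :=
  [[1, 1],
    [1, 2, 1, 2, 1, 2],
    [1, 3, 1, 3],
    [1, 4, 1, 4],
    [1, 5, 1, 5],
    [1, 6, 1, 6],
    [2, 2],
    [2, 3, 2, 3, 2, 3],
    [2, 4, 2, 4],
    [2, 5, 2, 5],
    [2, 6, 2, 6],
    [3, 3],
    [3, 4, 3, 4, 3, 4, 3, 4, 3, 4, 3, 4, 3, 4, 3, 4],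
    [3, 5, 3, 5],
    [3, 6, 3, 6],
    [4, 4],
    [4, 5, 4, 5, 4, 5],
    [4, 6, 4, 6],
    [5, 5],
    [5, 6, 5, 6, 5, 6],
    [6, 6]]

theorem pairsW_ok : ∀ w ∈ pairsW, relB w 1 = true :=
  List.forall_mem_cons.2 ⟨pairW0, (List.forall_mem_cons.2 ⟨pairW1, (List.forall_mem_cons.2 ⟨pairW2, (List.forall_mem_cons.2 ⟨pairW3, (List.forall_mem_cons.2 ⟨pairW4, (List.forall_mem_cons.2 ⟨pairW5, (List.forall_mem_cons.2 ⟨pairW6, (List.forall_mem_cons.2 ⟨pairW7, (List.forall_mem_cons.2 ⟨pairW8, (List.forall_mem_cons.2 ⟨pairW9, (List.forall_mem_cons.2 ⟨pairW10, (List.forall_mem_cons.2 ⟨pairW11, (List.forall_mem_cons.2 ⟨pairW12, (List.forall_mem_cons.2 ⟨pairW13, (List.forall_mem_cons.2 ⟨pairW14, (List.forall_mem_cons.2 ⟨pairW15, (List.forall_mem_cons.2 ⟨pairW16, (List.forall_mem_cons.2 ⟨pairW17, (List.forall_mem_cons.2 ⟨pairW18, (List.forall_mem_cons.2 ⟨pairW19, (List.forall_mem_cons.2 ⟨pairW20, (List.forall_mem_nil _)⟩)⟩)⟩)⟩)⟩)⟩)⟩)⟩)⟩)⟩)⟩)⟩)⟩)⟩)⟩)⟩)⟩)⟩)⟩)⟩)⟩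

theorem pairs_words : pairsL.map pairWord = pairsW := by decide +kernel

theorem pairs_ok {t : Nat × Nat × Nat} (h : t ∈ pairsL) : relB (pairWord t) 1 = true :=
  pairsW_ok _ (pairs_words ▸ List.mem_map_of_mem h)

theorem extra0 : relB [1, 6, 7, 7] 1 = true := by decide +kernel

theorem extra1 : relB [1, 6, 4, 3, 4, 3, 4, 3, 4, 3] 1 = true := by decide +kernel

theorem extra2 : relB [3, 7, 4, 7, 4, 3, 4, 0, 4, 0] 1 = true := by decide +kernel

theorem extra3 : relB [4, 7, 3, 7, 3, 4, 3, 0, 3, 0] 1 = true := by decide +kernel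

theorem extra4 : relB [2, 3, 4, 0, 2, 3, 4, 0, 2, 3, 4, 0, 2, 3, 4, 0, 2, 3, 4, 0] 4 = true := by decide +kernel

theorem extra5 : relB [0, 2, 3, 0, 3, 2, 0, 2, 3, 0, 3] 4 = true := by decide +kernel

theorem extra6 : relB [0, 5, 4, 0, 4, 5, 0, 5, 4, 0, 4] 4 = true := by decide +kernel

end Cfsg.Agent.ON45
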