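import Cfsg.Agent.CosetCert.Basic
import Cfsg.Agent.ON45.Data

/-!
# Packed matrices modulo 7

A row of 45 entries is one number with fields of 32 bits.
-/

set_option autoImplicit false

namespace Cfsg.Agent.ON45

open Cfsg.Agent.CosetCert

/-- A field. -/
def fieldN (r i : Nat) : Nat := r / 4294967296 ^ i % 4294967296

/-- Adding the multiples of the rows given by the fields of `v`. -/
noncomputable def comb (B : List Nat) (v acc : Nat) : Nat :=
  List.rec (motive := fun _ => Nat → Nat → Nat) (fun _ acc => acc)
    (fun r _ ih v acc => force (Nat.add acc (Nat.mul (Nat.mod v 4294967296) r)) fun a =>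
      force (Nat.div v 4294967296) fun v' => ih v' a)
    B v acc

/-- Fourteen low bits in each of `k` fields. -/
def maskF : Nat → Nat
  | 0 => 0
  | k + 1 => 16383 + 4294967296 * maskF k

/-- The same, evaluated. -/
def mask45 : Nat := 0x3fff00003fff00003fff00003fff00003fff00003fff00003fff00003fff00003fff00003fff00003fff00003fff00003fff00003fff00003fff00003fff00003fff00003fff00003fff00003fff00003fff00003fff00003fff00003fff00003fff00003fff00003fff00003fff00003fff00003fff00003fff00003fff00003fff00003fff00003fff00003fff00003fff00003fff00003fff00003fff00003fff00003fff00003fff00003fff00003fff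

/-- Reducing every field below 16384. -/
noncomputable def red (a : Nat) : Nat :=
  Nat.sub a (Nat.mul 7 (Nat.land (Nat.shiftRight (Nat.mul a 37450) 18) mask45))

/-- The product, computed completely before it is used. -/
noncomputable def mulK {α : Type} (A B : List Nat) (k : List Nat → α) : α :=
  List.rec (motive := fun _ => (List Nat → α) → α) (fun k => k [])
    (fun r _ ih k => force (red (comb B r 0)) fun x => ih fun l => k (x :: l)) A k

/-- Equality of lists. -/
noncomputable def eqB (A B : List Nat) : Bool :=
  List.rec (motive := fun _ => List Nat → Bool) (fun B => B.isEmpty)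
    (fun r _ ih B => Nat.beq (B.headD 0) r && (!B.isEmpty && ih B.tail)) A B

/-- The scalar matrix with entry `c`. -/
def scM (c : Nat) : List Nat := (List.range 45).map fun i => c * 4294967296 ^ i

/-- The generators and the inverse of the first one. -/
def gm (x : Nat) : List Nat :=
  [gm0, gm1, gm2, gm3, gm4, gm5, gm6, gm7].getD x (scM 1)

/-- The matrix of a word, applied to `k`. -/
noncomputable def wordK {α : Type} (w : List Nat) (P : List Nat) (k : List Nat → α) : α :=
  List.rec (motive := fun _ => List Nat → α) (fun P => k P)
    (fun x _ ih P => mulK P (gm x) ih) w P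

/-- The product over a word is the scalar `c`. -/
noncomputable def relB (w : List Nat) (c : Nat) : Bool :=
  wordK w (scM 1) fun P => eqB P (scM c)

/-- The pairs of involutory generators with their labels. -/
def pairsL : List (Nat × Nat × Nat) :=
  [(1, 1, 1), (1, 2, 3), (1, 3, 2), (1, 4, 2), (1, 5, 2), (1, 6, 2), (2, 2, 1), (2, 3, 3), (2, 4, 2), (2, 5, 2),
   (2, 6, 2), (3, 3, 1), (3, 4, 8), (3, 5, 2), (3, 6, 2), (4, 4, 1), (4, 5, 3), (4, 6, 2), (5, 5, 1), (5, 6, 3),
   (6, 6, 1)]

/-- The word of a pair with its label. -/
def pairWord (t : Nat × Nat × Nat) : List Nat := (List.replicate t.2.2 [t.1, t.2.1]).flatten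

end Cfsg.Agent.ON45
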