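import Cfsg.Agent.ON45.Check
import Cfsg.Agent.CosetCert.ONOrder.Main
import Cfsg.Prelude.Def_KGroupFacts
import Cfsg.Prelude.Def_Sporadic
import Mathlib

/-!
# The triple cover of the O'Nan group as matrices of degree 45 modulo 7

The matrices satisfy the relators up to scalars from the group of cube roots of unity, so they give a
homomorphism from O'N into the quotient of GL by these scalars; simplicity does the rest.
-/

set_option autoImplicit false
set_option maxRecDepth 100000
set_option linter.constructorNameAsVariable false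

namespace Cfsg.Agent.ON45

open Cfsg.Agent.CosetCert Cfsg.Spor

/-- Packing a function. -/
def pk : Nat → (Nat → Nat) → Nat
  | 0, _ => 0
  | k + 1, f => f 0 + 4294967296 * pk k fun i => f (i + 1)

theorem pk_add : ∀ (k : Nat) (f g : Nat → Nat), pk k f + pk k g = pk k fun i => f i + g i
  | 0, _, _ => rfl
  | k + 1, f, g => by simp only [pk, ← pk_add k]; ring

theorem pk_mul : ∀ (k c : Nat) (f : Nat → Nat), c * pk k f = pk k fun i => c * f i
  | 0, _, _ => by simp [pk]
  | k + 1, c, f => by simp only [pk, ← pk_mul k]; ring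

theorem pk_zero : ∀ k : Nat, pk k (fun _ => 0) = 0
  | 0 => rfl
  | k + 1 => by simp [pk, pk_zero k]

theorem pk_congr : ∀ (k : Nat) {f g : Nat → Nat}, (∀ i < k, f i = g i) → pk k f = pk k g
  | 0, _, _, _ => rfl
  | k + 1, _, _, h => by
    simp only [pk]
    rw [h 0 (by omega), pk_congr k fun i hi => h (i + 1) (by omega)]

theorem pk_sum (k : Nat) (f : Nat → Nat → Nat) : ∀ n : Nat,
    ∑ l ∈ Finset.range n, pk k (f l) = pk k fun i => ∑ l ∈ Finset.range n, f l i
  | 0 => by simp [pk_zero]
  | n + 1 => by simp only [Finset.sum_range_succ, pk_sum k f n, pk_add]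

theorem field_succ (a i : Nat) : fieldN a (i + 1) = fieldN (a / 4294967296) i := by
  rw [fieldN, fieldN, pow_succ', Nat.div_div_eq_div_mul]

theorem field_pk : ∀ (k : Nat) (f : Nat → Nat), (∀ i < k, f i < 4294967296) →
    ∀ i < k, fieldN (pk k f) i = f i
  | 0, _, _, i, hi => absurd hi (Nat.not_lt_zero i)
  | k + 1, f, h, 0, _ => by
    have := h 0 (by omega)
    simp only [fieldN, pk, pow_zero, Nat.div_one]
    omega
  | k + 1, f, h, i + 1, hi => by
    have h0 := h 0 (by omega)
    rw [field_succ, pk, show (f 0 + 4294967296 * pk k fun i => f (i + 1)) / 4294967296 =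
      pk k fun i => f (i + 1) by omega]
    exact field_pk k _ (fun j hj => h _ (by omega)) i (by omega)

theorem pk_field : ∀ (k a : Nat), a < 4294967296 ^ k → pk k (fieldN a) = a
  | 0, a, h => by simp [pk] at h ⊢; omega
  | k + 1, a, h => by
    have ha : a / 4294967296 < 4294967296 ^ k := by
      rw [Nat.div_lt_iff_lt_mul (by norm_num), ← pow_succ]
      exact h
    simp only [pk, field_succ, pk_field k _ ha]
    simp only [fieldN, pow_zero, Nat.div_one]
    omega

theorem land_mask : ∀ (k : Nat) (g : Nat → Nat), (∀ i < k, g i < 4294967296) →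
    Nat.land (Nat.shiftRight (pk k g) 18) (maskF k) = pk k fun i => g i / 262144
  | 0, _, _ => by simp [pk, maskF]
  | k + 1, g, h => by
    have h0 := h 0 (by omega)
    have ih := land_mask k (fun i => g (i + 1)) fun i hi => h _ (by omega)
    change (pk k (fun i => g (i + 1)) >>> 18) &&& maskF k = _ at ih
    show (pk (k + 1) g >>> 18) &&& maskF (k + 1) = _
    rw [Nat.shiftRight_eq_div_pow] at ih ⊢
    simp only [pk, maskF]
    generalize pk k (fun i => g (i + 1)) = P at ih ⊢
    rw [← ih]
    generalize maskF k = m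
    norm_num
    generalize hx : (g 0 + 4294967296 * P) / 262144 = x
    have e1 : (x &&& (16383 + 4294967296 * m)) % 2 ^ 32 = g 0 / 262144 := by
      rw [Nat.and_mod_two_pow, show (16383 + 4294967296 * m) % 2 ^ 32 = 2 ^ 14 - 1 by omega,
        Nat.and_two_pow_sub_one_eq_mod]
      omega
    have e2 : (x &&& (16383 + 4294967296 * m)) / 2 ^ 32 = P / 262144 &&& m := by
      rw [Nat.and_div_two_pow, show (16383 + 4294967296 * m) / 2 ^ 32 = m by omega,
        show x / 2 ^ 32 = P / 262144 by omega]
    omega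

theorem mask45_eq : mask45 = maskF 45 := by decide +kernel

theorem red_pk (f : Nat → Nat) (h : ∀ i < 45, f i < 16384) :
    red (pk 45 f) = pk 45 fun i => f i % 7 := by
  have e1 : Nat.mul (pk 45 f) 37450 = pk 45 fun i => 37450 * f i := by
    rw [← pk_mul]; exact Nat.mul_comm _ _
  rw [red, e1, mask45_eq, land_mask 45 _ fun i hi => by have := h i hi; omega]
  show pk 45 f - 7 * pk 45 _ = _
  rw [pk_mul]
  have e2 : pk 45 f = pk 45 (fun i => f i % 7) + pk 45 fun i => 7 * (37450 * f i / 262144) := by
    rw [pk_add]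
    refine pk_congr 45 fun i hi => ?_
    have := h i hi
    have hb : f i % 7 ≤ 6 := by omega
    omega
  omega

attribute [local irreducible] pk maskF

/-- A good matrix: 45 rows of 45 reduced fields. -/
def Good (A : List Nat) : Prop :=
  A.length = 45 ∧ ∀ r ∈ A, ∃ f : Nat → Nat, (∀ j, f j < 7) ∧ r = pk 45 f

/-- The check of a good matrix. -/
noncomputable def goodC (A : List Nat) : Bool :=
  Nat.beq A.length 45 && A.all fun r => Nat.blt r (4294967296 ^ 45) &&
    allFrom (fun j => Nat.blt (fieldN r j) 7) 0 45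

theorem good_of_check {A : List Nat} (h : goodC A = true) : Good A := by
  simp only [goodC, Bool.and_eq_true, List.all_eq_true, Nat.blt_eq] at h
  refine ⟨Nat.eq_of_beq_eq_true h.1, fun r hr => ⟨fun j => if j < 45 then fieldN r j else 0,
    fun j => ?_, ?_⟩⟩
  · show (if j < 45 then fieldN r j else 0) < 7
    split
    · exact Nat.blt_eq.mp ((allFrom_iff _ _ _).1 (h.2 r hr).2 j (Nat.zero_le _) (by omega))
    · norm_num
  · conv_lhs => rw [← pk_field 45 r (h.2 r hr).1]
    exact pk_congr 45 fun j hj => by rw [if_pos hj]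

/-- The matrix of a list of rows. -/
def toMat (A : List Nat) : Matrix (Fin 45) (Fin 45) (ZMod 7) :=
  Matrix.of fun i j => ((fieldN (A.getD i 0) j : ℕ) : ZMod 7)

theorem comb_eq : ∀ (B : List Nat) (v acc : Nat),
    comb B v acc = acc + ∑ l ∈ Finset.range B.length, fieldN v l * B.getD l 0
  | [], _, _ => by simp [comb]
  | r :: B, v, acc => by
    show force (Nat.add acc (Nat.mul (Nat.mod v 4294967296) r))
      (fun a => force (Nat.div v 4294967296) fun v' => comb B v' a) = _
    rw [force_eq, force_eq, comb_eq B, List.length_cons, Finset.sum_range_succ']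
    simp only [field_succ, List.getD_cons_succ, List.getD_cons_zero]
    simp only [fieldN, pow_zero, Nat.div_one]
    show Nat.add acc (Nat.mul (Nat.mod v 4294967296) r) + _ = _
    simp only [Nat.add_eq, Nat.mul_eq, show Nat.mod v 4294967296 = v % 4294967296 from rfl,
      show Nat.div v 4294967296 = v / 4294967296 from rfl]
    ring

theorem mulK_eq {α : Type} : ∀ (A B : List Nat) (k : List Nat → α),
    mulK A B k = k (A.map fun r => red (comb B r 0))
  | [], _, _ => rfl
  | r :: A, B, k => by
    show force (red (comb B r 0)) (fun x => mulK A B fun l => k (x :: l)) = _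
    rw [force_eq, mulK_eq A B]
    rfl

theorem mul_spec {A B : List Nat} (hA : Good A) (hB : Good B) :
    Good (A.map fun r => red (comb B r 0)) ∧
      toMat (A.map fun r => red (comb B r 0)) = toMat A * toMat B := by
  obtain ⟨hAl, hA⟩ := hA
  obtain ⟨hBl, hB⟩ := hB
  have hBf : ∀ l, l < 45 → ∃ f : Nat → Nat, (∀ j, f j < 7) ∧ B.getD l 0 = pk 45 f := by
    intro l hl
    rw [List.getD_eq_getElem _ _ (hBl.symm ▸ hl)]
    exact hB _ (List.getElem_mem _)
  choose F hF7 hFeq using hBf
  let F' : Nat → Nat → Nat := fun l j => if h : l < 45 then F l h j else 0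
  have key : ∀ r ∈ A, red (comb B r 0) =
      pk 45 (fun j => (∑ l ∈ Finset.range 45, fieldN r l * F' l j) % 7) := by
    intro r hr
    obtain ⟨f, hf, hfr⟩ := hA r hr
    rw [hfr]
    have e : comb B (pk 45 f) 0 =
        pk 45 (fun j => ∑ l ∈ Finset.range 45, fieldN (pk 45 f) l * F' l j) := by
      rw [comb_eq, hBl, Nat.zero_add, ← pk_sum]
      refine Finset.sum_congr rfl fun l hl => ?_
      have hl' := Finset.mem_range.1 hl
      rw [← pk_mul, hFeq l hl']
      congr 1
      exact pk_congr 45 fun j _ => by simp [F', hl']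
    rw [e, red_pk]
    intro j _
    calc (∑ l ∈ Finset.range 45, fieldN (pk 45 f) l * F' l j) ≤ ∑ l ∈ Finset.range 45, 36 := by
          refine Finset.sum_le_sum fun l hl => ?_
          have hl' := Finset.mem_range.1 hl
          rw [field_pk 45 f (fun i _ => (hf i).trans (by norm_num)) l hl']
          have h1 := hf l
          have h2 : F' l j ≤ 6 := by
            simp only [F', dif_pos hl']
            have := hF7 l hl' j
            omega
          calc f l * F' l j ≤ 6 * 6 := Nat.mul_le_mul (by omega) h2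
            _ = 36 := by norm_num
      _ < 16384 := by simp
  refine ⟨⟨by simpa using hAl, fun x hx => ?_⟩, ?_⟩
  · obtain ⟨r, hr, rfl⟩ := List.mem_map.1 hx
    exact ⟨_, fun j => Nat.mod_lt _ (by norm_num), key r hr⟩
  ext i j
  have hi : (i : Nat) < A.length := hAl.symm ▸ i.2
  rw [Matrix.mul_apply]
  simp only [toMat, Matrix.of_apply]
  rw [List.getD_eq_getElem _ _ (by simpa using hi), List.getElem_map, key _ (List.getElem_mem _),
    field_pk 45 _ (fun l _ => (Nat.mod_lt _ (by norm_num)).trans (by norm_num)) j j.2,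
    ZMod.natCast_mod, Nat.cast_sum, Finset.sum_range]
  refine Finset.sum_congr rfl fun l _ => ?_
  rw [Nat.cast_mul, List.getD_eq_getElem _ _ hi]
  congr 1
  rw [hFeq l l.2, field_pk 45 _ (fun m _ => (hF7 l l.2 m).trans (by norm_num)) j j.2]
  simp [F', l.2]

theorem scM_check :
    allFrom (fun c => allFrom (fun i => allFrom (fun j =>
      Nat.beq (fieldN ((scM c).getD i 0) j) (cond (Nat.beq i j) c 0)) 0 45) 0 45) 0 7 = true := by
  decide +kernel

theorem toMat_scM {c : Nat} (hc : c < 7) : toMat (scM c) = Matrix.scalar (Fin 45) (c : ZMod 7) := by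
  ext i j
  have h := Nat.eq_of_beq_eq_true ((allFrom_iff _ _ _).1 ((allFrom_iff _ _ _).1
    ((allFrom_iff _ _ _).1 scM_check c (Nat.zero_le _) (by omega)) i (Nat.zero_le _)
      (by have := i.2; omega)) j (Nat.zero_le _) (by have := j.2; omega))
  simp only [toMat, Matrix.of_apply]
  rw [h, Matrix.scalar_apply, Matrix.diagonal_apply]
  by_cases hij : i = j
  · subst hij; simp
  · rw [if_neg hij, show Nat.beq (i : Nat) (j : Nat) = false from by
      rw [← Bool.not_eq_true, Nat.beq_eq]; exact fun e => hij (Fin.ext e)]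
    simp

theorem gm_good : (List.range 9).all (fun x => goodC (gm x)) = true := by decide +kernel

theorem good_gm (x : Nat) : Good (gm x) := by
  by_cases hx : x < 9
  · exact good_of_check (List.all_eq_true.1 gm_good x (List.mem_range.2 hx))
  · have h : gm x = gm 8 := by
      rw [gm, List.getD_eq_default _ _ (by simp; omega)]
      rfl
    rw [h]
    exact good_of_check (List.all_eq_true.1 gm_good 8 (List.mem_range.2 (by norm_num)))

theorem good_one : Good (scM 1) := good_gm 8

/-- The matrix of a number. -/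
noncomputable def M (x : Nat) : Matrix (Fin 45) (Fin 45) (ZMod 7) := toMat (gm x)

theorem wordK_spec {α : Type} : ∀ (w : List Nat) (P : List Nat) (k : List Nat → α), Good P →
    ∃ Q, Good Q ∧ toMat Q = toMat P * (w.map M).prod ∧ wordK w P k = k Q
  | [], P, k, h => ⟨P, h, by simp, rfl⟩
  | x :: w, P, k, h => by
    obtain ⟨h1, h2⟩ := mul_spec h (good_gm x)
    obtain ⟨Q, hQ, hQm, hQk⟩ := wordK_spec w _ k h1
    refine ⟨Q, hQ, by rw [hQm, h2, List.map_cons, List.prod_cons, mul_assoc]; rfl, ?_⟩
    show mulK P (gm x) (fun P' => wordK w P' k) = _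
    rw [mulK_eq]
    exact hQk

theorem eqB_spec : ∀ (A B : List Nat), eqB A B = true → B = A
  | [], B, h => List.isEmpty_iff.1 h
  | r :: A, B, h => by
    change (Nat.beq (B.headD 0) r && (!B.isEmpty && eqB A B.tail)) = true at h
    simp only [Bool.and_eq_true, Bool.not_eq_true'] at h
    cases B with
    | nil => simp at h
    | cons b B => rw [eqB_spec A B h.2.2, show b = r from Nat.eq_of_beq_eq_true h.1]

theorem rel_spec {w : List Nat} {c : Nat} (hc : c < 7) (h : relB w c = true) :
    (w.map M).prod = Matrix.scalar (Fin 45) (c : ZMod 7) := by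
  obtain ⟨P, -, hPm, hPk⟩ := wordK_spec w (scM 1) (fun P => eqB P (scM c)) good_one
  change wordK w (scM 1) (fun P => eqB P (scM c)) = true at h
  rw [hPk] at h
  rw [← toMat_scM hc, eqB_spec _ _ h, hPm, toMat_scM (by norm_num)]
  simp

theorem prod_pairWord (x y m : Nat) : ((pairWord (x, y, m)).map M).prod = (M x * M y) ^ m := by
  induction m with
  | zero => simp [pairWord]
  | succ m ih =>
    simp only [pairWord] at ih ⊢
    simp [List.replicate_succ, pow_succ', mul_assoc, ih]

attribute [local irreducible] M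

theorem pair_spec {t : Nat × Nat × Nat} (h : t ∈ pairsL) : (M t.1 * M t.2.1) ^ t.2.2 = 1 := by
  rw [← prod_pairWord, rel_spec (by norm_num) (pairs_ok h)]
  simp

/-- The number of a letter. -/
def num : ON.Gen → Nat
  | .g => 0
  | .a => 1
  | .b => 2
  | .c => 3
  | .d => 4
  | .e => 5
  | .f => 6

/-- The number of the inverse of a letter. -/
def numInv : ON.Gen → Nat
  | .g => 7
  | .a => 1
  | .b => 2
  | .c => 3
  | .d => 4
  | .e => 5
  | .f => 6

theorem inv_spec (a : ON.Gen) : M (num a) * M (numInv a) = 1 ∧ M (numInv a) * M (num a) = 1 := by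
  cases a with
  | g =>
    have h1 : M 0 * M 7 = 1 := by simpa using rel_spec (by norm_num) inv0
    have h2 : M 7 * M 0 = 1 := by simpa using rel_spec (by norm_num) inv7
    exact ⟨h1, h2⟩
  | a =>
    have h : M 1 * M 1 = 1 := by simpa using pair_spec (t := (1, 1, 1)) (by decide)
    exact ⟨h, h⟩
  | b =>
    have h : M 2 * M 2 = 1 := by simpa using pair_spec (t := (2, 2, 1)) (by decide)
    exact ⟨h, h⟩
  | c =>
    have h : M 3 * M 3 = 1 := by simpa using pair_spec (t := (3, 3, 1)) (by decide)
    exact ⟨h, h⟩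
  | d =>
    have h : M 4 * M 4 = 1 := by simpa using pair_spec (t := (4, 4, 1)) (by decide)
    exact ⟨h, h⟩
  | e =>
    have h : M 5 * M 5 = 1 := by simpa using pair_spec (t := (5, 5, 1)) (by decide)
    exact ⟨h, h⟩
  | f =>
    have h : M 6 * M 6 = 1 := by simpa using pair_spec (t := (6, 6, 1)) (by decide)
    exact ⟨h, h⟩

/-- The invertible matrix of a letter. -/
noncomputable def unit (a : ON.Gen) : GL (Fin 45) (ZMod 7) :=
  ⟨M (num a), M (numInv a), (inv_spec a).1, (inv_spec a).2⟩

theorem unit_val (a : ON.Gen) : ((unit a : GL (Fin 45) (ZMod 7)) : Matrix _ _ _) = M (num a) := rfl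

theorem unit_inv_val (a : ON.Gen) :
    (((unit a)⁻¹ : GL (Fin 45) (ZMod 7)) : Matrix _ _ _) = M (numInv a) := rfl

theorem ne_g_of_node {x : ON.Gen} (h : x ∈ coxNodes ON.edges) : x ≠ .g := by
  rintro rfl
  revert h
  decide

theorem label_mem (a b : ON.Gen) (ha : a ≠ .g) (hb : b ≠ .g) :
    0 < coxLabel ON.edges a b ∧ ((num a, num b, coxLabel ON.edges a b) ∈ pairsL ∨
      (num b, num a, coxLabel ON.edges a b) ∈ pairsL) := by
  revert ha hb
  cases a <;> cases b <;> decide +kernel

theorem pair_rel (a b : ON.Gen) (ha : a ≠ .g) (hb : b ≠ .g) :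
    (unit a * unit b) ^ coxLabel ON.edges a b = 1 := by
  obtain ⟨-, h⟩ := label_mem a b ha hb
  have key : ∀ c d : ON.Gen, (num c, num d, coxLabel ON.edges a b) ∈ pairsL →
      (unit c * unit d) ^ coxLabel ON.edges a b = 1 := fun c d hcd => by
    apply Units.ext
    rw [Units.val_pow_eq_pow_val, Units.val_mul, Units.val_one, unit_val, unit_val]
    generalize hk : coxLabel ON.edges a b = k at hcd ⊢
    exact pair_spec (t := (num c, num d, k)) hcd
  rcases h with h | h
  · exact key a b h
  · have e : unit a * unit b = unit a * (unit b * unit a) * (unit a)⁻¹ := by group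
    rw [e, conj_pow, key b a h]
    group

/-- The scalar of order three. -/
noncomputable def omega : GL (Fin 45) (ZMod 7) :=
  Units.map (Matrix.scalar (Fin 45)).toMonoidHom ⟨(4 : ZMod 7), 2, by decide, by decide⟩

/-- The scalars that are cube roots of unity. -/
noncomputable def Z : Subgroup (GL (Fin 45) (ZMod 7)) := Subgroup.zpowers omega

theorem omega_val : (omega : Matrix (Fin 45) (Fin 45) (ZMod 7)) = Matrix.scalar (Fin 45) ((4 : ℕ) : ZMod 7) :=
  rfl

theorem omega_central : omega ∈ Subgroup.center (GL (Fin 45) (ZMod 7)) := by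
  refine Subgroup.mem_center_iff.2 fun g => Units.ext ?_
  rw [Units.val_mul, Units.val_mul, omega_val]
  exact (Matrix.scalar_commute _ (fun r => Commute.all _ r) _).symm.eq

theorem Z_le_center : Z ≤ Subgroup.center (GL (Fin 45) (ZMod 7)) :=
  Subgroup.zpowers_le.2 omega_central

instance : Z.Normal := ⟨fun z hz g => by
  rw [Subgroup.mem_center_iff.1 (Z_le_center hz) g, mul_assoc, mul_inv_cancel, mul_one]
  exact hz⟩

theorem orderOf_omega : orderOf omega = 3 := by
  refine orderOf_eq_prime ?_ ?_
  · show omega ^ 3 = 1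
    apply Units.ext
    rw [Units.val_pow_eq_pow_val, omega_val, ← map_pow, Units.val_one]
    rw [show (((4 : ℕ) : ZMod 7)) ^ 3 = 1 by decide, map_one]
  · intro h
    have h1 : Matrix.scalar (Fin 45) ((4 : ℕ) : ZMod 7) = 1 := omega_val.symm.trans (congrArg Units.val h)
    rw [← map_one (Matrix.scalar (Fin 45))] at h1
    exact absurd (Matrix.scalar_inj.1 h1) (by decide)

theorem card_Z : Nat.card Z = 3 := by rw [Z, Nat.card_zpowers, orderOf_omega]

theorem det_omega : Matrix.GeneralLinearGroup.det omega = 1 := by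
  apply Units.ext
  rw [Matrix.GeneralLinearGroup.val_det_apply, omega_val, Matrix.scalar_apply, Matrix.det_diagonal]
  simp
  decide

theorem mem_Z_of_scalar {u : GL (Fin 45) (ZMod 7)} {c : Nat}
    (h : (u : Matrix _ _ _) = Matrix.scalar (Fin 45) (c : ZMod 7)) (hc : c = 1 ∨ c = 4) : u ∈ Z := by
  rcases hc with rfl | rfl
  · have : u = 1 := Units.ext (by simpa using h)
    exact this ▸ one_mem _
  · have : u = omega := Units.ext (h.trans omega_val.symm)
    exact this ▸ Subgroup.mem_zpowers _

/-- In any monoid, the further relators evaluate to products over their number words. -/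
theorem extra_val {R : Type*} [Monoid R] (u : ON.Gen → Rˣ) (m : Nat → R)
    (hu : ∀ a, (u a : R) = m (num a)) (hi : ∀ a, (((u a)⁻¹ : Rˣ) : R) = m (numInv a)) :
    ∀ r ∈ ON.extra, ∃ p ∈ ([
([1, 6, 7, 7], 1),
      ([1, 6, 4, 3, 4, 3, 4, 3, 4, 3], 1),
      ([3, 7, 4, 7, 4, 3, 4, 0, 4, 0], 1),
      ([4, 7, 3, 7, 3, 4, 3, 0, 3, 0], 1),
      ([2, 3, 4, 0, 2, 3, 4, 0, 2, 3, 4, 0, 2, 3, 4, 0, 2, 3, 4, 0], 4),
      ([0, 2, 3, 0, 3, 2, 0, 2, 3, 0, 3], 4),
      ([0, 5, 4, 0, 4, 5, 0, 5, 4, 0, 4], 4)] : List (List Nat × Nat)),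
      ((FreeGroup.lift u r : Rˣ) : R) = (p.1.map m).prod := by
  intro r hr
  simp only [ON.extra, List.mem_cons, List.not_mem_nil, or_false] at hr
  rcases hr with rfl | rfl | rfl | rfl | rfl | rfl | rfl
  · refine ⟨([1, 6, 7, 7], 1), by simp, ?_⟩
    simp only [map_mul, map_inv, map_pow, FreeGroup.lift_apply_of, mul_inv_rev, inv_inv, pow_succ, pow_zero,
      one_mul, mul_one, mul_assoc, Units.val_mul, hu, hi, num, numInv, List.map_cons, List.map_nil,
      List.prod_cons, List.prod_nil]
  · refine ⟨([1, 6, 4, 3, 4, 3, 4, 3, 4, 3], 1), by simp, ?_⟩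
    simp only [map_mul, map_inv, map_pow, FreeGroup.lift_apply_of, mul_inv_rev, inv_inv, pow_succ, pow_zero,
      one_mul, mul_one, mul_assoc, Units.val_mul, hu, hi, num, numInv, List.map_cons, List.map_nil,
      List.prod_cons, List.prod_nil]
  · refine ⟨([3, 7, 4, 7, 4, 3, 4, 0, 4, 0], 1), by simp, ?_⟩
    simp only [map_mul, map_inv, map_pow, FreeGroup.lift_apply_of, mul_inv_rev, inv_inv, pow_succ, pow_zero,
      one_mul, mul_one, mul_assoc, Units.val_mul, hu, hi, num, numInv, List.map_cons, List.map_nil,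
      List.prod_cons, List.prod_nil]
  · refine ⟨([4, 7, 3, 7, 3, 4, 3, 0, 3, 0], 1), by simp, ?_⟩
    simp only [map_mul, map_inv, map_pow, FreeGroup.lift_apply_of, mul_inv_rev, inv_inv, pow_succ, pow_zero,
      one_mul, mul_one, mul_assoc, Units.val_mul, hu, hi, num, numInv, List.map_cons, List.map_nil,
      List.prod_cons, List.prod_nil]
  · refine ⟨([2, 3, 4, 0, 2, 3, 4, 0, 2, 3, 4, 0, 2, 3, 4, 0, 2, 3, 4, 0], 4), by simp, ?_⟩
    simp only [map_mul, map_inv, map_pow, FreeGroup.lift_apply_of, mul_inv_rev, inv_inv, pow_succ, pow_zero,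
      one_mul, mul_one, mul_assoc, Units.val_mul, hu, hi, num, numInv, List.map_cons, List.map_nil,
      List.prod_cons, List.prod_nil]
  · refine ⟨([0, 2, 3, 0, 3, 2, 0, 2, 3, 0, 3], 4), by simp, ?_⟩
    simp only [map_mul, map_inv, map_pow, FreeGroup.lift_apply_of, mul_inv_rev, inv_inv, pow_succ, pow_zero,
      one_mul, mul_one, mul_assoc, Units.val_mul, hu, hi, num, numInv, List.map_cons, List.map_nil,
      List.prod_cons, List.prod_nil]
  · refine ⟨([0, 5, 4, 0, 4, 5, 0, 5, 4, 0, 4], 4), by simp, ?_⟩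
    simp only [map_mul, map_inv, map_pow, FreeGroup.lift_apply_of, mul_inv_rev, inv_inv, pow_succ, pow_zero,
      one_mul, mul_one, mul_assoc, Units.val_mul, hu, hi, num, numInv, List.map_cons, List.map_nil,
      List.prod_cons, List.prod_nil]

/-- The value of the sixth further relator. -/
theorem word_g_val {R : Type*} [Monoid R] (u : ON.Gen → Rˣ) (m : Nat → R)
    (hu : ∀ a, (u a : R) = m (num a)) (hi : ∀ a, (((u a)⁻¹ : Rˣ) : R) = m (numInv a)) :
    ((FreeGroup.lift u (ON.g * ON.b * (ON.c⁻¹ * ON.g * ON.c) * (ON.b⁻¹ * ON.g * ON.b) * (ON.c⁻¹ * ON.g * ON.c)) :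
      Rˣ) : R) = (List.map m [0, 2, 3, 0, 3, 2, 0, 2, 3, 0, 3]).prod := by
  simp only [map_mul, map_inv, FreeGroup.lift_apply_of, Units.val_mul, hu, hi, num, numInv, List.map_cons,
    List.map_nil, List.prod_cons, List.prod_nil, mul_assoc, mul_one]

theorem relators_mem : ∀ r ∈ coxRelators ON.edges ∪ {r | r ∈ ON.extra}, FreeGroup.lift unit r ∈ Z := by
  rintro r (⟨a, ha, b, hb, rfl⟩ | hr)
  · rw [map_pow, map_mul, FreeGroup.lift_apply_of, FreeGroup.lift_apply_of,
      pair_rel a b (ne_g_of_node ha) (ne_g_of_node hb)]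
    exact one_mem _
  · obtain ⟨p, hp, he⟩ := extra_val unit M unit_val unit_inv_val r hr
    simp only [List.mem_cons, List.not_mem_nil, or_false] at hp
    rcases hp with rfl | rfl | rfl | rfl | rfl | rfl | rfl
    · exact mem_Z_of_scalar (he.trans (rel_spec (by norm_num) extra0)) (Or.inl rfl)
    · exact mem_Z_of_scalar (he.trans (rel_spec (by norm_num) extra1)) (Or.inl rfl)
    · exact mem_Z_of_scalar (he.trans (rel_spec (by norm_num) extra2)) (Or.inl rfl)
    · exact mem_Z_of_scalar (he.trans (rel_spec (by norm_num) extra3)) (Or.inl rfl)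
    · exact mem_Z_of_scalar (he.trans (rel_spec (by norm_num) extra4)) (Or.inr rfl)
    · exact mem_Z_of_scalar (he.trans (rel_spec (by norm_num) extra5)) (Or.inr rfl)
    · exact mem_Z_of_scalar (he.trans (rel_spec (by norm_num) extra6)) (Or.inr rfl)

/-- The projective homomorphism. -/
noncomputable def proj : ON →* GL (Fin 45) (ZMod 7) ⧸ Z :=
  PresentedGroup.toGroup (f := fun a => QuotientGroup.mk' Z (unit a)) fun r hr => by
    rw [show FreeGroup.lift (fun a => QuotientGroup.mk' Z (unit a)) r =
      QuotientGroup.mk' Z (FreeGroup.lift unit r) from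
        congrFun (congrArg DFunLike.coe (FreeGroup.ext_hom (f := FreeGroup.lift _)
          (g := (QuotientGroup.mk' Z).comp (FreeGroup.lift unit)) fun a => by simp)) r]
    exact (QuotientGroup.eq_one_iff _).2 (relators_mem r hr)

theorem proj_of (a : ON.Gen) : proj (PresentedGroup.of a) = QuotientGroup.mk' Z (unit a) :=
  PresentedGroup.toGroup.of _

theorem gm1_entry : fieldN ((gm 1).getD 0 0) 0 % 7 ≠ fieldN ((scM 1).getD 0 0) 0 % 7 := by decide +kernel

theorem M1_ne : M 1 ≠ 1 := by
  intro h
  have h2 : toMat (gm 1) = toMat (scM 1) := by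
    rw [toMat_scM (by norm_num), Nat.cast_one, map_one]
    unfold M at h
    exact h
  refine gm1_entry ?_
  have := congrFun (congrFun h2 0) 0
  simp only [toMat, Matrix.of_apply] at this
  exact (ZMod.natCast_eq_natCast_iff' _ _ _).1 this

theorem proj_injective : Function.Injective proj := by
  haveI := ONOrder.order_and_simple.1
  rcases proj.normal_ker.eq_bot_or_eq_top with h | h
  · exact (MonoidHom.ker_eq_bot_iff _).1 h
  exfalso
  have h1 : unit .a ∈ Z := by
    rw [← QuotientGroup.eq_one_iff, ← QuotientGroup.mk'_apply, ← proj_of]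
    exact MonoidHom.mem_ker.1 (h ▸ Subgroup.mem_top _)
  have h3 : unit .a ^ 3 = 1 := by
    obtain ⟨k, hk⟩ := Subgroup.mem_zpowers_iff.1 h1
    rw [← hk, ← zpow_natCast, ← zpow_mul, mul_comm, zpow_mul, zpow_natCast, ← orderOf_omega,
      pow_orderOf_eq_one, one_zpow]
  have h2 : unit .a * unit .a = 1 := by
    have := pair_rel .a .a (by decide) (by decide)
    rwa [show coxLabel ON.edges ON.Gen.a ON.Gen.a = 1 by decide, pow_one] at this
  have e : unit .a = 1 := by
    rw [pow_succ, pow_two, h2, one_mul] at h3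
    exact h3
  exact M1_ne ((congrArg Units.val e).trans Units.val_one)

theorem no_comm : ¬ ∀ x y : ON, x * y = y * x := by
  intro hc
  haveI := ONOrder.order_and_simple.1
  letI : CommGroup ON := { (inferInstance : Group ON) with mul_comm := hc }
  haveI : Finite ON := Nat.finite_of_card_ne_zero (by rw [ONOrder.order_and_simple.2]; norm_num)
  have hp : (Nat.card ON).Prime := IsSimpleGroup.prime_card
  rw [ONOrder.order_and_simple.2] at hp
  exact absurd ((hp.eq_one_or_self_of_dvd 2 (by norm_num))) (by norm_num)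

theorem det_unit_quot (x : ON) : ∀ g : GL (Fin 45) (ZMod 7), QuotientGroup.mk' Z g = proj x →
    Matrix.GeneralLinearGroup.det g = 1 := by
  have hZ : Z ≤ (Matrix.GeneralLinearGroup.det (n := Fin 45) (R := ZMod 7)).ker :=
    Subgroup.zpowers_le.2 det_omega
  let d : ON →* (ZMod 7)ˣ := (QuotientGroup.lift Z Matrix.GeneralLinearGroup.det hZ).comp proj
  haveI := ONOrder.order_and_simple.1
  have hd : d.ker = ⊤ := by
    rcases d.normal_ker.eq_bot_or_eq_top with h | h
    · exact absurd (fun a b => (MonoidHom.ker_eq_bot_iff _).1 h (by rw [map_mul, map_mul, mul_comm])) no_comm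
    · exact h
  intro g hg
  have h1 : d x = 1 := MonoidHom.mem_ker.1 (hd ▸ Subgroup.mem_top x)
  have h2 : d x = QuotientGroup.lift Z Matrix.GeneralLinearGroup.det hZ (QuotientGroup.mk' Z g) := by
    rw [hg]
    rfl
  rw [h2] at h1
  simpa using h1

theorem exists_toGL_eq {n : Type*} [Fintype n] [DecidableEq n] {R : Type*} [CommRing R] (g : GL n R)
    (hg : Matrix.GeneralLinearGroup.det g = 1) : ∃ s : Matrix.SpecialLinearGroup n R,
      Matrix.SpecialLinearGroup.toGL s = g :=
  have h1 : (g : Matrix n n R).det = 1 := by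
    rw [← Matrix.GeneralLinearGroup.val_det_apply, hg, Units.val_one]
  ⟨⟨g, h1⟩, Units.ext rfl⟩

theorem no_section (s : ON →* GL (Fin 45) (ZMod 7))
    (hs : ∀ x, QuotientGroup.mk' Z (s x) = proj x) : False := by
  have hz : ∀ a, (s (PresentedGroup.of a))⁻¹ * unit a ∈ Z := fun a =>
    QuotientGroup.eq.1 ((hs _).trans (proj_of a))
  have h3 : ∀ z ∈ Z, z ^ 3 = 1 := by
    intro z hz
    obtain ⟨k, rfl⟩ := Subgroup.mem_zpowers_iff.1 hz
    rw [← zpow_natCast, ← zpow_mul, mul_comm, zpow_mul, zpow_natCast, ← orderOf_omega, pow_orderOf_eq_one,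
      one_zpow]
  -- a generator whose square is the same in both lifts is the same in both
  have key : ∀ a, s (PresentedGroup.of a) * s (PresentedGroup.of a) = unit a * unit a →
      s (PresentedGroup.of a) = unit a := by
    intro a h
    generalize hu : s (PresentedGroup.of a) = u at h
    have hzm := hz a
    rw [hu] at hzm
    obtain ⟨z, hzZ, hzu⟩ : ∃ z ∈ Z, unit a = u * z := ⟨_, hzm, (mul_inv_cancel_left _ _).symm⟩
    have hc : z * u = u * z := (Subgroup.mem_center_iff.1 (Z_le_center hzZ) u).symm
    rw [hzu, mul_assoc, ← mul_assoc z, hc, mul_assoc, ← mul_assoc, left_eq_mul] at h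
    have h1 : z = 1 := by
      have := h3 z hzZ
      rwa [pow_succ, pow_two, h, one_mul] at this
    rw [hzu, h1, mul_one]
  have sq : ∀ a, a ≠ ON.Gen.g → s (PresentedGroup.of a) = unit a := by
    intro a ha
    refine key a ?_
    have h1 : (PresentedGroup.of a : ON) * PresentedGroup.of a = 1 := by
      have hn : a ∈ coxNodes ON.edges := by revert ha; cases a <;> decide
      have := PresentedGroup.one_of_mem (rels := coxRelators ON.edges ∪ {r | r ∈ ON.extra})
        (Or.inl ⟨a, hn, a, hn, rfl⟩)
      simpa [coxLabel, PresentedGroup.of] using this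
    have h2 : unit a * unit a = 1 := by
      have := pair_rel a a ha ha
      rwa [show coxLabel ON.edges a a = 1 by simp [coxLabel], pow_one] at this
    rw [← map_mul, h1, map_one, h2]
  have hg : s (PresentedGroup.of ON.Gen.g) = unit .g := by
    refine key .g ?_
    have h1 := PresentedGroup.one_of_mem (rels := coxRelators ON.edges ∪ {r | r ∈ ON.extra})
      (x := (ON.a * ON.f) * ((ON.g ^ 2)⁻¹)) (Or.inr (by simp [ON.extra]))
    have h2 := congrArg s h1
    simp only [map_mul, map_inv, map_pow, map_one] at h2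
    change s (PresentedGroup.of .a) * s (PresentedGroup.of .f) * (s (PresentedGroup.of .g) ^ 2)⁻¹ = 1 at h2
    rw [sq .a (by decide), sq .f (by decide), mul_inv_eq_one, pow_two] at h2
    rw [← h2]
    apply Units.ext
    simp only [Units.val_mul, unit_val]
    have h0 := rel_spec (by norm_num) extra0
    simp only [List.map_cons, List.map_nil, List.prod_cons, List.prod_nil, mul_one, Nat.cast_one, map_one,
      ← mul_assoc] at h0
    have hi := (inv_spec .g).2
    calc M (num .a) * M (num .f)
        = M 1 * M 6 * M 7 * (M 7 * M 0) * M 0 := by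
          rw [show M 7 * M 0 = 1 from hi, mul_one, mul_assoc (M 1 * M 6) (M 7), show M 7 * M 0 = 1 from hi,
            mul_one]
          rfl
      _ = M (num .g) * M (num .g) := by
          rw [← mul_assoc, h0, one_mul]
          rfl
  have hall : ∀ a, s (PresentedGroup.of a) = unit a := fun a => by
    by_cases ha : a = ON.Gen.g
    · subst ha; exact hg
    · exact sq a ha
  -- but the sixth further relator is a nontrivial scalar on these matrices
  let r : FreeGroup ON.Gen :=
    ON.g * ON.b * (ON.c⁻¹ * ON.g * ON.c) * (ON.b⁻¹ * ON.g * ON.b) * (ON.c⁻¹ * ON.g * ON.c)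
  have h1 : FreeGroup.lift unit r = 1 := by
    have := congrArg s (PresentedGroup.one_of_mem (rels := coxRelators ON.edges ∪ {r | r ∈ ON.extra})
      (x := r) (Or.inr (by simp [ON.extra, r])))
    rw [map_one] at this
    rw [← this, show FreeGroup.lift unit r = (s.comp (PresentedGroup.mk _)) r from
      congrFun (congrArg DFunLike.coe (FreeGroup.ext_hom (f := FreeGroup.lift unit)
        (g := s.comp (PresentedGroup.mk _)) fun a => by simpa [PresentedGroup.of] using (hall a).symm)) r]
    rfl
  have h2 : ((FreeGroup.lift unit r : GL (Fin 45) (ZMod 7)) : Matrix _ _ _) =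
      Matrix.scalar (Fin 45) ((4 : ℕ) : ZMod 7) :=
    (word_g_val unit M unit_val unit_inv_val).trans (rel_spec (by norm_num) extra5)
  rw [h1, Units.val_one, ← map_one (Matrix.scalar (Fin 45))] at h2
  exact absurd (Matrix.scalar_inj.1 h2) (by decide)

theorem exists_projection : ∃ (H : Subgroup (Matrix.SpecialLinearGroup (Fin 45) (ZMod 7))) (p : H →* ON),
    Function.Surjective p ∧ Subgroup.center H = p.ker ∧ Nat.card p.ker = 3 ∧
      ∀ h : H, QuotientGroup.mk' Z (Matrix.SpecialLinearGroup.toGL h.1) = proj (p h) := by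
  classical
  let i : Matrix.SpecialLinearGroup (Fin 45) (ZMod 7) →* GL (Fin 45) (ZMod 7) :=
    Matrix.SpecialLinearGroup.toGL
  have hi : Function.Injective i := Matrix.SpecialLinearGroup.toGL_injective
  let H : Subgroup (Matrix.SpecialLinearGroup (Fin 45) (ZMod 7)) :=
    proj.range.comap ((QuotientGroup.mk' Z).comp i)
  have lift_det : ∀ g : GL (Fin 45) (ZMod 7), Matrix.GeneralLinearGroup.det g = 1 → ∃ s, i s = g :=
    exists_toGL_eq
  let e : proj.range ≃* ON := (MonoidHom.ofInjective proj_injective).symm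
  let p : H →* ON := e.toMonoidHom.comp
    ((((QuotientGroup.mk' Z).comp i).comp H.subtype).codRestrict proj.range fun h => h.2)
  have hp : Function.Surjective p := by
    intro x
    obtain ⟨g, hg⟩ := QuotientGroup.mk'_surjective Z (proj x)
    obtain ⟨s, hs⟩ := lift_det g (det_unit_quot x g hg)
    refine ⟨⟨s, ⟨x, ?_⟩⟩, ?_⟩
    · show proj x = QuotientGroup.mk' Z (i s)
      rw [hs, hg]
    · refine e.symm.injective ((e.symm_apply_apply _).trans (Subtype.ext ?_))
      show QuotientGroup.mk' Z (i s) = proj x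
      rw [hs, hg]
  have hker : ∀ h : H, h ∈ p.ker ↔ i h.1 ∈ Z := by
    intro h
    rw [MonoidHom.mem_ker, show p h = e _ from rfl, EmbeddingLike.map_eq_one_iff, Subtype.ext_iff]
    exact QuotientGroup.eq_one_iff _
  have hle : p.ker ≤ Subgroup.center H := fun h hh => Subgroup.mem_center_iff.2 fun k =>
    Subtype.ext (hi (by
      show i (k.1 * h.1) = i (h.1 * k.1)
      rw [map_mul, map_mul]
      exact Subgroup.mem_center_iff.1 (Z_le_center ((hker h).1 hh)) _))
  haveI := ONOrder.order_and_simple.1
  have hctr : Subgroup.center ON = ⊥ := by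
    rcases (inferInstance : (Subgroup.center ON).Normal).eq_bot_or_eq_top with h | h
    · exact h
    · exact absurd (fun x y => Subgroup.mem_center_iff.1 (h ▸ Subgroup.mem_top y) x) no_comm
  have hcenter : Subgroup.center H = p.ker := by
    refine le_antisymm (fun h hh => ?_) hle
    rw [MonoidHom.mem_ker, ← Subgroup.mem_bot, ← hctr, Subgroup.mem_center_iff]
    intro x
    obtain ⟨k, rfl⟩ := hp x
    rw [← map_mul, ← map_mul, Subgroup.mem_center_iff.1 hh k]
  have hcard : Nat.card p.ker = 3 := by
    have hm : p.ker.map (i.comp H.subtype) = Z := by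
      ext g
      constructor
      · rintro ⟨h, hh, rfl⟩
        exact (hker h).1 hh
      · intro hg
        have hd : Matrix.GeneralLinearGroup.det g = 1 :=
          (Subgroup.zpowers_le.2 det_omega : Z ≤ (Matrix.GeneralLinearGroup.det (n := Fin 45) (R := ZMod 7)).ker) hg
        obtain ⟨s, hs⟩ := lift_det g hd
        have hs1 : QuotientGroup.mk' Z (i s) = 1 := (QuotientGroup.eq_one_iff _).2 (hs.symm ▸ hg)
        exact ⟨⟨s, ⟨1, (map_one proj).trans hs1.symm⟩⟩, (hker _).2 (show i s ∈ Z from hs.symm ▸ hg), hs⟩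
    rw [← Subgroup.card_map_of_injective (f := i.comp H.subtype) (hi.comp Subtype.coe_injective),
      hm, card_Z]
  refine ⟨H, p, hp, hcenter, hcard, fun h => ?_⟩
  exact (congrArg Subtype.val ((MonoidHom.ofInjective proj_injective).apply_symm_apply
    ⟨QuotientGroup.mk' Z (i h.1), h.2⟩)).symm

theorem exists_cover : ∃ H : Subgroup (Matrix.SpecialLinearGroup (Fin 45) (ZMod 7)),
    Nat.card (Subgroup.center H) = 3 ∧ Cfsg.IsON (H ⧸ Subgroup.center H) := by
  obtain ⟨H, p, hp, hcenter, hcard, -⟩ := exists_projection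
  refine ⟨H, by rw [hcenter]; exact hcard, ?_⟩
  haveI := ONOrder.order_and_simple.1
  let q : H ⧸ Subgroup.center H ≃* ON :=
    (QuotientGroup.quotientMulEquivOfEq hcenter).trans (QuotientGroup.quotientKerEquivOfSurjective p hp)
  haveI : Nontrivial (H ⧸ Subgroup.center H) := q.toEquiv.nontrivial
  exact ⟨IsSimpleGroup.isSimpleGroup_of_surjective q.symm.toMonoidHom q.symm.surjective,
    (Nat.card_congr q.toEquiv).trans ONOrder.order_and_simple.2⟩

/-- The matrix cover is a stem extension of O'N with kernel of order three. -/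
theorem exists_stem : ∃ (Γ : Type) (_ : Group Γ) (_ : Finite Γ) (σ : Γ →* ON),
    Cfsg.IsStemExtension σ ∧ Nonempty (σ.ker ≃* Multiplicative (ZMod 3)) := by
  obtain ⟨H, p, hp, hcenter, hcard, hcomp⟩ := exists_projection
  haveI := ONOrder.order_and_simple.1
  haveI : Fact (Nat.Prime 3) := ⟨by norm_num⟩
  haveI : IsCyclic p.ker := isCyclic_of_prime_card (p := 3) hcard
  refine ⟨H, inferInstance, inferInstance, p, ⟨hp, hcenter ▸ le_rfl, ?_⟩, ⟨(zmodMulEquivOfGenerator
    (g := (IsCyclic.exists_generator (α := p.ker)).choose) (IsCyclic.exists_generator (α := p.ker)).choose_spec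
    hcard).symm⟩⟩
  -- the derived subgroup maps onto O'N and, were it disjoint from the kernel, would split the cover
  let K := commutator H
  have hK : ∀ x : ON, ∃ k : K, p k = x := fun x => by
    have h1 : K.map p = commutator ON := by
      simp only [K, commutator_def, Subgroup.map_commutator, Subgroup.map_top_of_surjective p hp]
    have h2 : commutator ON = ⊤ := by
      rcases (inferInstance : (commutator ON).Normal).eq_bot_or_eq_top with h | h
      · exact absurd (fun a b => commutatorElement_eq_one_iff_mul_comm.1 (Subgroup.mem_bot.1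
          (h ▸ Subgroup.commutator_mem_commutator (Subgroup.mem_top a) (Subgroup.mem_top b)))) no_comm
      · exact h
    obtain ⟨k, hk, hkx⟩ := Subgroup.mem_map.1 (h1.trans h2 ▸ Subgroup.mem_top x)
    exact ⟨⟨k, hk⟩, hkx⟩
  by_contra hne
  have hinf : ∀ k : K, p k = 1 → k = 1 := by
    intro k hk
    by_contra hk1
    refine hne fun z hz => ?_
    have hgen : (⟨z, hz⟩ : p.ker) ∈ Subgroup.zpowers (⟨k.1, hk⟩ : p.ker) := by
      rw [zpowers_eq_top_of_prime_card hcard (g := (⟨k.1, hk⟩ : p.ker)) (fun e => hk1 (Subtype.ext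
        (congrArg (fun q : p.ker => (q : H)) e)))]
      exact Subgroup.mem_top _
    obtain ⟨n, hn⟩ := Subgroup.mem_zpowers_iff.1 hgen
    rw [show z = ((⟨z, hz⟩ : p.ker) : H) from rfl, ← hn, Subgroup.coe_zpow]
    exact zpow_mem k.2 n
  let e : K ≃* ON := MulEquiv.ofBijective (p.comp K.subtype)
    ⟨(injective_iff_map_eq_one _).2 fun k hk => hinf k hk, fun x => hK x⟩
  let s : ON →* GL (Fin 45) (ZMod 7) :=
    (Matrix.SpecialLinearGroup.toGL.comp H.subtype).comp (K.subtype.comp e.symm.toMonoidHom)
  have hs : ∀ x, QuotientGroup.mk' Z (s x) = proj x := fun x => by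
    show QuotientGroup.mk' Z (Matrix.SpecialLinearGroup.toGL ((e.symm x : K) : H).1) = _
    rw [hcomp, show p ((e.symm x : K) : H) = x from e.apply_symm_apply x]
  exact no_section s hs

end Cfsg.Agent.ON45
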